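import Mathlib

/-!
# Central kernels of prime order and a coprime normal subgroup below (helper53)

`inf_commutator`: let `π : Γ → C` be surjective with central kernel of prime order `p`, and `f : C → A` surjective with
kernel of order prime to `p`. If `A` has no stem extension with kernel of order `p`, then the kernel of `π` meets the
commutator subgroup of `Γ` trivially.
-/

set_option autoImplicit false
set_option linter.unusedVariables false
set_option linter.style.haveILetI false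

namespace Cfsg.Agent.H53.CoprimeKer

open Subgroup

universe u v w

variable {Γ : Type u} {C : Type v} {A : Type w} [Group Γ] [Group C] [Group A]

/-- a normal complement in the preimage of the kernel -/
theorem exists_compl [Finite Γ] (π : Γ →* C) (hπ : Function.Surjective π) (hcen : π.ker ≤ center Γ) {p : ℕ}
    (hp : p.Prime) (hcard : Nat.card π.ker = p) (f : C →* A) (hk : ¬ p ∣ Nat.card f.ker) :
    ∃ H : Subgroup Γ, H.Normal ∧ H ≤ (f.comp π).ker ∧ (∀ x, x ∈ π.ker → x ∈ H → x = 1) ∧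
      ∀ g ∈ (f.comp π).ker, ∃ n ∈ π.ker, ∃ h ∈ H, g = n * h := by
  set P : Subgroup Γ := (f.comp π).ker with hP
  have hNP : π.ker ≤ P := fun x hx => by
    rw [hP, MonoidHom.mem_ker, MonoidHom.comp_apply, (MonoidHom.mem_ker).1 hx, map_one]
  let r : P →* f.ker := (π.comp P.subtype).codRestrict f.ker fun x => by
    rw [MonoidHom.mem_ker]; exact x.2
  have hr : Function.Surjective r := by
    rintro ⟨y, hy⟩
    obtain ⟨x, rfl⟩ := hπ y
    exact ⟨⟨x, hy⟩, rfl⟩
  have hrk : ∀ x : P, x ∈ r.ker ↔ (x : Γ) ∈ π.ker := by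
    intro x
    rw [MonoidHom.mem_ker, MonoidHom.mem_ker]
    exact ⟨fun h => congrArg Subtype.val h, fun h => Subtype.ext h⟩
  have hc1 : Nat.card r.ker = p := by
    rw [← hcard]
    refine Nat.card_congr ⟨fun x => ⟨x.1, (hrk x.1).1 x.2⟩, fun x => ⟨⟨x.1, hNP x.2⟩, (hrk _).2 x.2⟩, ?_, ?_⟩
    · intro x; rfl
    · intro x; rfl
  have hc2 : r.ker.index = Nat.card f.ker := by
    rw [Subgroup.index_ker, MonoidHom.range_eq_top.2 hr, Subgroup.card_top]
  have hcop : Nat.Coprime (Nat.card r.ker) r.ker.index := by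
    rw [hc1, hc2]
    exact (Nat.Prime.coprime_iff_not_dvd hp).2 hk
  obtain ⟨H, hH⟩ := exists_right_complement'_of_coprime hcop
  set m := Nat.card f.ker with hm
  have hcH : Nat.card H = m := by
    rw [← hc2]
    exact hH.symm.index_eq_card.symm
  have hHpow : ∀ x ∈ H, x ^ m = 1 := by
    intro x hx
    have h1 : (⟨x, hx⟩ : H) ^ Nat.card H = 1 := pow_card_eq_one'
    rw [hcH] at h1
    exact congrArg Subtype.val h1
  have hNpow : ∀ x ∈ π.ker, x ^ p = 1 := by
    intro x hx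
    have h1 : (⟨x, hx⟩ : π.ker) ^ Nat.card π.ker = 1 := pow_card_eq_one'
    rw [hcard] at h1
    exact congrArg Subtype.val h1
  have hdec : ∀ g : P, ∃ n ∈ r.ker, ∃ h ∈ H, g = n * h := by
    intro g
    obtain ⟨⟨n, h⟩, hnh⟩ := hH.2 g
    exact ⟨n, n.2, h, h.2, hnh.symm⟩
  have hcopm : ∀ x : Γ, x ∈ π.ker → x ^ m = 1 → x = 1 := by
    intro x hx hxm
    have h1 : orderOf x ∣ p := orderOf_dvd_of_pow_eq_one (hNpow x hx)
    have h2 : orderOf x ∣ m := orderOf_dvd_of_pow_eq_one hxm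
    have h3 : orderOf x ∣ 1 := by
      rw [← (Nat.Prime.coprime_iff_not_dvd hp).2 hk]
      exact Nat.dvd_gcd h1 h2
    exact orderOf_eq_one_iff.1 (Nat.dvd_one.1 h3)
  refine ⟨H.map P.subtype, ⟨?_⟩, ?_, ?_, ?_⟩
  · rintro _ ⟨x, hx, rfl⟩ g
    have hgP : g * (x : Γ) * g⁻¹ ∈ P := (inferInstance : P.Normal).conj_mem _ x.2 g
    obtain ⟨n, hn, h, hh, he⟩ := hdec ⟨_, hgP⟩
    have hn' := (hrk n).1 hn
    have he' : g * (x : Γ) * g⁻¹ = (n : Γ) * h := congrArg Subtype.val he
    have hcomm : Commute (n : Γ) (h : Γ) := (Subgroup.mem_center_iff.1 (hcen hn') (h : Γ)).symm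
    have h1 : (g * (x : Γ) * g⁻¹) ^ m = 1 := by
      rw [conj_pow]
      have := congrArg Subtype.val (hHpow x hx)
      rw [Subgroup.coe_pow, Subgroup.coe_one] at this
      rw [this, mul_one, mul_inv_cancel]
    have h2 : (n : Γ) ^ m = 1 := by
      rw [he', hcomm.mul_pow] at h1
      have := congrArg Subtype.val (hHpow h hh)
      rw [Subgroup.coe_pow, Subgroup.coe_one] at this
      rwa [this, mul_one] at h1
    have h3 : (n : Γ) = 1 := hcopm _ hn' h2
    refine ⟨h, hh, ?_⟩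
    show (h : Γ) = g * (x : Γ) * g⁻¹
    rw [he', h3, one_mul]
  · rintro _ ⟨x, hx, rfl⟩
    exact x.2
  · rintro x hx ⟨y, hy, rfl⟩
    refine hcopm _ hx ?_
    exact congrArg Subtype.val (hHpow y hy)
  · intro g hg
    obtain ⟨n, hn, h, hh, he⟩ := hdec ⟨g, hg⟩
    exact ⟨n, (hrk n).1 hn, h, ⟨h, hh, rfl⟩, congrArg Subtype.val he⟩

/-- **A coprime normal subgroup can be factored out.** -/
theorem inf_commutator [Finite Γ] (π : Γ →* C) (hπ : Function.Surjective π) (hcen : π.ker ≤ center Γ) {p : ℕ}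
    (hp : p.Prime) (hcard : Nat.card π.ker = p) (f : C →* A) (hf : Function.Surjective f)
    (hk : ¬ p ∣ Nat.card f.ker)
    (hA : ∀ (Γ' : Type u) [Group Γ'] [Finite Γ'] (ρ : Γ' →* A), Function.Surjective ρ → ρ.ker ≤ center Γ' →
      ρ.ker ≤ commutator Γ' → Nat.card ρ.ker ≠ p) {z : Γ} (hz : π z = 1) (hz' : z ∈ commutator Γ) : z = 1 := by
  by_contra hz1
  obtain ⟨H, hHn, hHP, hHN, hdec⟩ := exists_compl π hπ hcen hp hcard f hk
  have hNc : π.ker ≤ commutator Γ := by
    intro x hx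
    haveI : Fact (Nat.card π.ker).Prime := ⟨by rw [hcard]; exact hp⟩
    have h1 : (⟨x, hx⟩ : π.ker) ∈ Subgroup.zpowers (⟨z, hz⟩ : π.ker) :=
      mem_zpowers_of_prime_card (p := Nat.card π.ker) rfl fun h => hz1 (congrArg Subtype.val h)
    obtain ⟨k, hk'⟩ := h1
    have h2 : z ^ k = x := congrArg Subtype.val hk'
    rw [← h2]
    exact Subgroup.zpow_mem _ hz' k
  let ρ : Γ ⧸ H →* A := QuotientGroup.lift H (f.comp π) hHP
  have hρ : ∀ g : Γ, ρ (QuotientGroup.mk' H g) = f (π g) := fun g => rfl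
  have hρk : ρ.ker = π.ker.map (QuotientGroup.mk' H) := by
    ext q
    constructor
    · intro hq
      obtain ⟨g, rfl⟩ := QuotientGroup.mk'_surjective H q
      obtain ⟨n, hn, h, hh, he⟩ := hdec g (by rw [MonoidHom.mem_ker] at hq ⊢; exact hq)
      refine ⟨n, hn, ?_⟩
      rw [he, map_mul, (QuotientGroup.eq_one_iff h).2 hh |> fun t => (show QuotientGroup.mk' H h = 1 from t), mul_one]
    · rintro ⟨n, hn, rfl⟩
      rw [MonoidHom.mem_ker, hρ, (MonoidHom.mem_ker).1 hn, map_one]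
  refine hA (Γ ⧸ H) ρ ?_ ?_ ?_ ?_
  · intro a
    obtain ⟨c, rfl⟩ := hf a
    obtain ⟨g, rfl⟩ := hπ c
    exact ⟨QuotientGroup.mk' H g, rfl⟩
  · rw [hρk]
    rintro _ ⟨n, hn, rfl⟩
    rw [Subgroup.mem_center_iff]
    intro q
    obtain ⟨g, rfl⟩ := QuotientGroup.mk'_surjective H q
    rw [← map_mul, ← map_mul, Subgroup.mem_center_iff.1 (hcen hn) g]
  · rw [hρk, Subgroup.map_le_iff_le_comap]
    intro x hx
    have h1 : (commutator Γ).map (QuotientGroup.mk' H) ≤ commutator (Γ ⧸ H) := by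
      rw [commutator_def, commutator_def, Subgroup.map_commutator]
      exact Subgroup.commutator_mono le_top le_top
    exact h1 ⟨x, hNc hx, rfl⟩
  · rw [hρk, ← hcard]
    refine (Nat.card_congr (Equiv.ofBijective
      (fun x : π.ker => (⟨QuotientGroup.mk' H x, x, x.2, rfl⟩ : π.ker.map (QuotientGroup.mk' H))) ⟨?_, ?_⟩)).symm
    · intro x y hxy
      have h1 : (QuotientGroup.mk' H (x : Γ)) = QuotientGroup.mk' H (y : Γ) := congrArg Subtype.val hxy
      have h2 : (x : Γ)⁻¹ * y ∈ H := QuotientGroup.eq.1 h1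
      have h3 := hHN _ (Subgroup.mul_mem _ (Subgroup.inv_mem _ x.2) y.2) h2
      exact Subtype.ext (inv_mul_eq_one.1 h3)
    · rintro ⟨_, x, hx, rfl⟩
      exact ⟨⟨x, hx⟩, rfl⟩

end Cfsg.Agent.H53.CoprimeKer
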